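import Cfsg.Agent.ZipperClosure.Main
import Mathlib.GroupTheory.SemidirectProduct

/-!
# Iterated commutators with an automorphism

If the commutators `g * (α g)⁻¹` generate the finite group `G`, so do their iterates.
-/

set_option autoImplicit false
set_option linter.unusedSectionVars false

namespace CfsgLib.ZipperClosure

open Subgroup Pointwise CfsgLib.SZ CfsgLib.Solvable

universe u

/-- The twisted commutator map. -/
def twist {G : Type u} [Group G] (α : MulAut G) (c : G) : G := c * (α c)⁻¹

/-- The semidirect product of a group by the powers of one automorphism. -/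
abbrev Holo {G : Type u} [Group G] (α : MulAut G) : Type u :=
  G ⋊[(zpowers α).subtype] ↥(zpowers α)

instance {G : Type u} [Group G] [Finite G] (α : MulAut G) : Finite (Holo α) :=
  Finite.of_equiv _ SemidirectProduct.equivProd.symm

theorem twist_iter_comm {G : Type u} [Group G] (α : MulAut G) (k : ℕ) (g : G) :
    α ((twist α)^[k] g) = (twist α)^[k] (α g) := by
  have h : Function.Commute (α : G → G) (twist α) := fun x => by simp [twist]
  exact h.iterate_right k g

theorem conj_inr {G : Type u} [Group G] (α : MulAut G) (g : G) :
    (SemidirectProduct.inl g : Holo α) * SemidirectProduct.inr ⟨α, mem_zpowers α⟩ *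
      (SemidirectProduct.inl g)⁻¹ =
      SemidirectProduct.inl (twist α g) * SemidirectProduct.inr ⟨α, mem_zpowers α⟩ := by
  ext <;> simp [twist]

/-- The elements of the semidirect product whose left part lies in an invariant subgroup. -/
def leftPart {G : Type u} [Group G] (α : MulAut G) (U : Subgroup G)
    (hU : ∀ a ∈ zpowers α, ∀ u ∈ U, (a : MulAut G) u ∈ U) : Subgroup (Holo α) where
  carrier := {x | x.left ∈ U}
  one_mem' := by simp
  mul_mem' := fun {x y} hx hy => by
    show (x * y).left ∈ U
    rw [SemidirectProduct.mul_left]
    exact mul_mem hx (hU _ x.right.2 _ hy)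
  inv_mem' := fun {x} hx => by
    show x⁻¹.left ∈ U
    rw [SemidirectProduct.inv_left]
    exact hU _ x.right⁻¹.2 _ (inv_mem hx)

theorem iterated_twist_generate (n : ℕ) : ∀ (G : Type u) [Group G] [Finite G], Nat.card G = n →
    ∀ α : MulAut G, closure (Set.range (twist α)) = ⊤ →
      ∀ k : ℕ, closure (Set.range ((twist α)^[k])) = ⊤ := by
  induction n using Nat.strong_induction_on with
  | _ n ih =>
    intro G _ _ hn α hα k
    by_contra hne
    set U := closure (Set.range ((twist α)^[k])) with hUdef
    have hUinv : ∀ a ∈ zpowers α, ∀ u ∈ U, (a : MulAut G) u ∈ U := by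
      have h1 : U.map α.toMonoidHom = U := by
        refine eq_of_le_of_card_le ?_ (le_of_eq (card_map_of_injective α.injective).symm)
        rw [hUdef, MonoidHom.map_closure, closure_le]
        rintro _ ⟨_, ⟨g, rfl⟩, rfl⟩
        exact subset_closure ⟨α g, (twist_iter_comm α k g).symm⟩
      intro a ha u hu
      have h2 : a ∈ MulAction.stabilizer (MulAut G) U := by
        refine (zpowers_le.2 ?_) ha
        rw [MulAction.mem_stabilizer_iff]
        exact h1
      rw [MulAction.mem_stabilizer_iff] at h2
      rw [← h2]
      exact smul_mem_pointwise_smul u a U hu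
    set A : Subgroup (Holo α) := zpowers (SemidirectProduct.inr ⟨α, mem_zpowers α⟩) with hA
    have hinr : ∀ a : ↥(zpowers α), (SemidirectProduct.inr a : Holo α) ∈ A := by
      rintro ⟨a, j, rfl⟩
      exact ⟨j, (map_zpow SemidirectProduct.inr (⟨α, mem_zpowers α⟩ : ↥(zpowers α)) j).symm⟩
    have htop : ∀ K : Subgroup (Holo α), A ≤ K → (∀ g : G, SemidirectProduct.inl g ∈ K) → K = ⊤ := by
      intro K hAK hG
      refine eq_top_iff.2 fun x _ => ?_
      rw [← SemidirectProduct.inl_left_mul_inr_right x]
      exact mul_mem (hG _) (hAK (hinr _))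
    have hAncl : normalClosure (A : Set (Holo α)) = ⊤ := by
      refine htop _ le_normalClosure fun g => ?_
      have h1 : ⊤ ≤ (normalClosure (A : Set (Holo α))).comap SemidirectProduct.inl := by
        rw [← hα, closure_le]
        rintro _ ⟨c, rfl⟩
        have ha : (SemidirectProduct.inr ⟨α, mem_zpowers α⟩ : Holo α) ∈ normalClosure (A : Set (Holo α)) :=
          le_normalClosure (mem_zpowers _)
        have h2 := normalClosure_normal.conj_mem _ ha (SemidirectProduct.inl c)
        rw [conj_inr] at h2
        exact (Subgroup.mul_mem_cancel_right _ ha).1 h2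
      exact h1 (mem_top g)
    set UA := leftPart α U hUinv with hUA
    have hAUA : A ≤ UA := zpowers_le.2 (by show _ ∈ U; simp)
    have hUAtop : UA ≠ ⊤ := fun he => hne (eq_top_iff.2 fun g _ => by
      have h1 : (SemidirectProduct.inl g : Holo α) ∈ UA := he ▸ mem_top _
      simpa [hUA, leftPart] using h1)
    have hfam : ∀ K ∈ Fam A, K ≤ UA := by
      intro K hK
      set H : Subgroup G := K.comap SemidirectProduct.inl with hH
      have hHa : ∀ h ∈ H, α h ∈ H := fun h hh => by
        have hm := hK.1 (mem_zpowers (SemidirectProduct.inr ⟨α, mem_zpowers α⟩ : Holo α))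
        have := mul_mem (mul_mem hm hh) (inv_mem hm)
        rwa [hH, mem_comap, show α h = (zpowers α).subtype ⟨α, mem_zpowers α⟩ h from rfl,
          SemidirectProduct.inl_aut, map_inv]
      have hHmap : H.map α.toMonoidHom = H := by
        refine eq_of_le_of_card_le ?_ (le_of_eq (card_map_of_injective α.injective).symm)
        rintro _ ⟨h, hh, rfl⟩
        exact hHa h hh
      let β : MulAut H := (α.subgroupMap H).trans (MulEquiv.subgroupCongr hHmap)
      have hβ : ∀ h : H, ((β h : H) : G) = α h := fun h => rfl
      have hsub : ∀ (j : ℕ) (h : H), (((twist β)^[j] h : H) : G) = (twist α)^[j] (h : G) := by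
        intro j
        induction j with
        | zero => intro h; rfl
        | succ j ihj =>
          intro h
          rw [Function.iterate_succ_apply', Function.iterate_succ_apply', ← ihj]
          simp [twist, hβ]
      set V : Subgroup G := closure ((twist α) '' (H : Set G)) with hV
      have hVH : V ≤ H := by
        rw [hV, closure_le]
        rintro _ ⟨h, hh, rfl⟩
        exact mul_mem hh (inv_mem (hHa h hh))
      have hVconj : ∀ g ∈ H, ∀ v ∈ V, g * v * g⁻¹ ∈ V := by
        intro g hg v hv
        induction hv using closure_induction with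
        | mem x hx =>
          obtain ⟨h, hh, rfl⟩ := hx
          have e : g * twist α h * g⁻¹ = twist α (g * h) * (twist α g)⁻¹ := by
            simp [twist, mul_assoc]
          rw [e]
          exact mul_mem (subset_closure ⟨_, mul_mem hg hh, rfl⟩) (inv_mem (subset_closure ⟨g, hg, rfl⟩))
        | one => simp
        | mul x y _ _ hx hy => simpa [mul_assoc] using mul_mem hx hy
        | inv x _ hx => simpa [mul_assoc] using inv_mem hx
      set L : Subgroup (Holo α) := V.map SemidirectProduct.inl ⊔ A with hL
      have haL : (SemidirectProduct.inr ⟨α, mem_zpowers α⟩ : Holo α) ∈ L :=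
        mem_sup_right (mem_zpowers _)
      have hHL : ∀ g ∈ H, (SemidirectProduct.inl g : Holo α) ∈ normalizer (L : Set (Holo α)) := by
        intro g hg
        rw [← conj_smul_eq_iff_mem_normalizer]
        refine eq_of_le_of_card_le ?_ (card_conj_smul _ _).ge
        rw [hL, Subgroup.smul_sup]
        refine sup_le ?_ ?_
        · rintro _ ⟨_, ⟨v, hv, rfl⟩, rfl⟩
          exact mem_sup_left ⟨g * v * g⁻¹, hVconj g hg v hv, by simp⟩
        · rw [hA, conj_smul_eq_map, MonoidHom.map_zpowers, zpowers_le]
          show (SemidirectProduct.inl g : Holo α) * _ * (SemidirectProduct.inl g)⁻¹ ∈ L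
          rw [conj_inr]
          exact mul_mem (mem_sup_left ⟨_, subset_closure ⟨g, hg, rfl⟩, rfl⟩) haL
      have hKL : K ≤ L := by
        refine hK.2.2.ge.trans (nc_le_of le_sup_right fun x hx => ?_)
        rw [← SemidirectProduct.inl_left_mul_inr_right x] at hx ⊢
        refine mul_mem (hHL _ ?_) (le_normalizer (mem_sup_right (hinr _)))
        exact (Subgroup.mul_mem_cancel_right _ (hK.1 (hinr _))).1 hx
      have hHV : V = H := by
        refine le_antisymm hVH fun h hh => ?_
        have hVinv : ∀ a ∈ zpowers α, ∀ u ∈ V, (a : MulAut G) u ∈ V := by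
          have h1 : V.map α.toMonoidHom = V := by
            refine eq_of_le_of_card_le ?_ (le_of_eq (card_map_of_injective α.injective).symm)
            rw [hV, MonoidHom.map_closure, closure_le]
            rintro _ ⟨_, ⟨g, hg, rfl⟩, rfl⟩
            exact subset_closure ⟨α g, hHa g hg, by simp [twist]⟩
          intro a ha u hu
          have h2 : a ∈ MulAction.stabilizer (MulAut G) V := by
            refine (zpowers_le.2 ?_) ha
            rw [MulAction.mem_stabilizer_iff]
            exact h1
          rw [MulAction.mem_stabilizer_iff] at h2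
          rw [← h2]
          exact smul_mem_pointwise_smul u a V hu
        have hLle : L ≤ leftPart α V hVinv := by
          refine sup_le ?_ (zpowers_le.2 (by show _ ∈ V; simp))
          rintro _ ⟨v, hv, rfl⟩
          exact hv
        exact hLle (hKL hh)
      have hlt : Nat.card H < n := hn ▸ card_lt_of_ne_top fun he =>
        hK.2.1 (htop K hK.1 fun g => by
          have : g ∈ H := he ▸ mem_top g
          exact this)
      have hβgen : closure (Set.range (twist β)) = ⊤ := by
        apply map_injective H.subtype_injective
        rw [← MonoidHom.range_eq_map, range_subtype, MonoidHom.map_closure]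
        refine Eq.trans ?_ hHV
        rw [hV]
        congr 1
        ext x
        constructor
        · rintro ⟨_, ⟨h, rfl⟩, rfl⟩
          exact ⟨h, h.2, (hsub 1 h).symm⟩
        · rintro ⟨h, hh, rfl⟩
          exact ⟨_, ⟨⟨h, hh⟩, rfl⟩, hsub 1 _⟩
      have hi := ih _ hlt H rfl β hβgen k
      have hHU : H ≤ U := by
        intro h hh
        have h1 : (⟨h, hh⟩ : H) ∈ (U.comap H.subtype) := by
          have : closure (Set.range ((twist β)^[k])) ≤ U.comap H.subtype := by
            rw [closure_le]
            rintro _ ⟨g, rfl⟩
            show ((((twist β)^[k]) g : H) : G) ∈ U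
            rw [hsub]
            exact subset_closure ⟨_, rfl⟩
          exact this (hi ▸ mem_top _)
        exact h1
      intro x hx
      rw [← SemidirectProduct.inl_left_mul_inr_right x] at hx ⊢
      exact mul_mem (hHU ((Subgroup.mul_mem_cancel_right _ (hK.1 (hinr _))).1 hx)) (hAUA (hinr _))
    obtain ⟨M, ⟨hM, hAM⟩, huniq⟩ := unique_maximal A hAncl
      (fun he => hUAtop (top_le_iff.1 (he ▸ hAUA)))
      (fun he => hUAtop (top_le_iff.1 (he ▸ sSup_le hfam)))
    have hUM : UA ≤ M := by
      obtain ⟨M₁, hM₁, hle⟩ := (eq_top_or_exists_le_coatom UA).resolve_left hUAtop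
      exact huniq M₁ ⟨hM₁, hAUA.trans hle⟩ ▸ hle
    have hstep : ∀ g : G, (SemidirectProduct.inl g : Holo α) ∉ M →
        (SemidirectProduct.inl (twist α g) : Holo α) ∉ M := by
      intro g hg hc
      set x : Holo α := SemidirectProduct.inl g with hx
      have h1 : A ≤ MulAut.conj x⁻¹ • M := by
        rw [hA, zpowers_le, mem_conj_smul]
        have h2 := mul_mem hc (hAM (mem_zpowers (SemidirectProduct.inr ⟨α, mem_zpowers α⟩ : Holo α)))
        rw [← conj_inr, ← hx] at h2
        simpa [mul_assoc] using h2
      have h3 := conj_smul_eq_iff_mem_normalizer.1 (huniq _ ⟨conj_isCoatom _ hM, h1⟩)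
      have hlt : M < normalizer (M : Set (Holo α)) :=
        lt_of_le_of_ne le_normalizer fun he => hg (he.ge (inv_mem_iff.1 h3))
      haveI := normalizer_eq_top_iff.1 (hM.2 _ hlt)
      exact hM.1 (top_le_iff.1 (hAncl.ge.trans (normalClosure_le_normal hAM)))
    obtain ⟨g, hg⟩ := not_forall.1 fun h => hM.1 (htop M hAM h)
    have hk : ∀ j, (SemidirectProduct.inl ((twist α)^[j] g) : Holo α) ∉ M := by
      intro j
      induction j with
      | zero => exact hg
      | succ j ihj => rw [Function.iterate_succ_apply']; exact hstep _ ihj
    refine hk k (hUM ?_)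
    show (SemidirectProduct.inl ((twist α)^[k] g) : Holo α).left ∈ U
    simpa using (Subgroup.subset_closure (Set.mem_range_self g) : (twist α)^[k] g ∈ U)

end CfsgLib.ZipperClosure
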