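import Cfsg.Agent.Solvable.Zipper

/-!
# A generalised zipper lemma

If `G = A^G` and the join `Y` of all proper subgroups `H ⊇ A` with `H = A^H` is proper, then `A` lies in a
unique maximal subgroup.

The proof: with `M` the maximal subgroup attached to `A`, every other maximal `M'` over `A` has `A` subnormal.
Conjugates of `A` carry their conjugates of `M` ("homes").  An induction on the index of `A` shows that if two
conjugates `U`, `V` lie in a common maximal subgroup that is not the home of `U` and `V` lies in the home of `U`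
then `U` lies in the home of `V`, and the homes differ.  If `M ⊓ M'` is chosen maximal, this makes the join of
the conjugates inside `M ⊓ M'` normalized by elements of `M` and of `M'` outside `M ⊓ M'`, a contradiction.
-/

set_option autoImplicit false
set_option linter.unusedSectionVars false

namespace CfsgLib.ZipperClosure

open Subgroup Pointwise CfsgLib.SZ CfsgLib.Solvable

universe u

variable {G : Type u} [Group G] [Finite G]

/-- The normal closure of `A` in `K`, as a subgroup of `G`. -/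
def nc (K A : Subgroup G) : Subgroup G :=
  (normalClosure ((A.subgroupOf K : Subgroup K) : Set K)).map K.subtype

theorem nc_le (K A : Subgroup G) : nc K A ≤ K := map_subtype_le _

theorem le_nc {K A : Subgroup G} (h : A ≤ K) : A ≤ nc K A := fun a ha =>
  ⟨⟨a, h ha⟩, subset_normalClosure (mem_subgroupOf.2 ha), rfl⟩

theorem le_normalizer_nc (K A : Subgroup G) : K ≤ normalizer (nc K A : Set G) := fun k hk => by
  rw [← conj_smul_eq_iff_mem_normalizer]
  have h1 := congrArg (Subgroup.map K.subtype)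
    (conj_smul_normal (⟨k, hk⟩ : K) (normalClosure ((A.subgroupOf K : Subgroup K) : Set K)))
  rwa [conj_smul_map] at h1

theorem nc_le_of {K A L : Subgroup G} (hA : A ≤ L) (hK : K ≤ normalizer (L : Set G)) : nc K A ≤ L := by
  haveI := normal_subgroupOf_of_le_normalizer hK
  refine map_le_iff_le_comap.2 (normalClosure_le_normal (N := L.subgroupOf K) fun x hx => ?_)
  exact hA hx

theorem nc_mono_left {K K' A : Subgroup G} (hA : A ≤ K') (h : K' ≤ K) : nc K' A ≤ nc K A :=
  nc_le_of (le_nc (hA.trans h)) (h.trans (le_normalizer_nc K A))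

theorem nc_mono_right {K A B : Subgroup G} (hB : B ≤ K) (h : A ≤ B) : nc K A ≤ nc K B :=
  nc_le_of (h.trans (le_nc hB)) (le_normalizer_nc K B)

theorem nc_eq_iff {K A : Subgroup G} :
    nc K A = K ↔ normalClosure ((A.subgroupOf K : Subgroup K) : Set K) = ⊤ := by
  constructor
  · intro h
    apply map_injective K.subtype_injective
    rw [← MonoidHom.range_eq_map, range_subtype]
    exact h
  · intro h
    rw [nc, h, ← MonoidHom.range_eq_map, range_subtype]

theorem eq_of_subnormal_of_nc_eq {K A : Subgroup G} (hAK : A ≤ K) (hs : (A.subgroupOf K).IsSubnormal)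
    (h : nc K A = K) : A = K := by
  by_contra hne
  obtain ⟨N, hN, hAN, hlt⟩ := hs.exists_normal_and_le_and_lt_top_of_ne
    fun he => hne (le_antisymm hAK (subgroupOf_eq_top.1 he))
  exact hlt.ne (top_le_iff.1 ((nc_eq_iff.1 h).ge.trans (normalClosure_le_normal hAN)))

/-- The family attached to `A`. -/
def Fam (A : Subgroup G) : Set (Subgroup G) := {H | A ≤ H ∧ H ≠ ⊤ ∧ nc H A = H}

theorem fam_eq (A : Subgroup G) : Fam A = {H : Subgroup G | A ≤ H ∧ H ≠ ⊤ ∧
    normalClosure ((A.subgroupOf H : Subgroup ↥H) : Set ↥H) = ⊤} := by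
  ext H
  simp only [Fam, Set.mem_ofPred_eq, nc_eq_iff]

theorem exists_fam_subnormal (A : Subgroup G) : ∀ K : Subgroup G, A ≤ K → K ≠ ⊤ →
    ∃ H ∈ Fam A, H ≤ K ∧ (H.subgroupOf K).IsSubnormal := by
  intro K
  induction K using WellFoundedLT.induction with
  | _ K ih =>
    intro hAK hK
    by_cases he : nc K A = K
    · exact ⟨K, ⟨hAK, hK, he⟩, le_rfl, by rw [subgroupOf_self]; exact IsSubnormal.top⟩
    have hlt : nc K A < K := lt_of_le_of_ne (nc_le K A) he
    obtain ⟨H, hH, hHL, hsn⟩ := ih _ hlt (le_nc hAK) fun ht => hK (top_le_iff.1 (ht ▸ nc_le K A))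
    refine ⟨H, hH, hHL.trans (nc_le K A), ?_⟩
    haveI := normal_subgroupOf_of_le_normalizer (le_normalizer_nc K A)
    refine IsSubnormal.trans (K := (nc K A).subgroupOf K) (fun x hx => hHL hx) ?_
      (Normal.isSubnormal inferInstance)
    let φ : ↥((nc K A).subgroupOf K) →* ↥(nc K A) :=
      (K.subtype.comp ((nc K A).subgroupOf K).subtype).codRestrict _ fun t => t.2
    exact hsn.comap φ

theorem conj_ne_top {g : G} {V : Subgroup G} (h : V ≠ ⊤) : MulAut.conj g • V ≠ ⊤ := fun he =>
  h (eq_top_of_card_eq _ (by rw [← card_conj_smul g V, he, card_top]))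

theorem conj_isCoatom (g : G) {M : Subgroup G} (h : IsCoatom M) : IsCoatom (MulAut.conj g • M) := by
  refine ⟨conj_ne_top h.1, fun V hV => ?_⟩
  by_contra hne
  have h1 : M ≤ MulAut.conj g⁻¹ • V := by
    rw [← conj_smul_inv_smul g M]
    exact pointwise_smul_le_pointwise_smul_iff.2 hV.le
  rcases h1.eq_or_lt with he | hlt
  · refine hV.ne ?_
    rw [he, ← conj_smul_mul, mul_inv_cancel, map_one, one_smul]
  · exact conj_ne_top hne (h.2 _ hlt)

theorem conj_le_conj {g : G} {A B : Subgroup G} :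
    MulAut.conj g • A ≤ MulAut.conj g • B ↔ A ≤ B := pointwise_smul_le_pointwise_smul_iff

theorem normalClosure_top_mono {A B : Subgroup G} (h : A ≤ B) (hA : normalClosure (A : Set G) = ⊤) :
    normalClosure (B : Set G) = ⊤ :=
  top_le_iff.1 (hA.ge.trans (normalClosure_mono h))

theorem not_normalizer_top {A : Subgroup G} (hA : normalClosure (A : Set G) = ⊤) (hne : A ≠ ⊤) :
    normalizer (A : Set G) ≠ ⊤ := by
  intro he
  haveI := normalizer_eq_top_iff.1 he
  exact hne (by rw [← normalClosure_eq_self A, hA])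

theorem unique_maximal (A : Subgroup G) (hA : normalClosure (A : Set G) = ⊤) (hAG : A ≠ ⊤)
    (hY : sSup (Fam A) ≠ ⊤) : ∃! M : Subgroup G, IsCoatom M ∧ A ≤ M := by
  induction A using WellFoundedGT.induction with
  | _ A ih =>
    set Y := sSup (Fam A) with hYdef
    have hAfam : A ∈ Fam A := ⟨le_rfl, hAG, le_antisymm (nc_le A A) (le_nc le_rfl)⟩
    have hAY : A ≤ Y := le_sSup hAfam
    have hYfam : Y ∈ Fam A := ⟨hAY, hY, le_antisymm (nc_le Y A) (sSup_le fun H hH =>
      hH.2.2.ge.trans (nc_mono_left hH.1 (le_sSup hH)))⟩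
    have hsub : ∀ H ∈ Fam A, Fam H ⊆ Fam A := by
      intro H hH K hK
      refine ⟨hH.1.trans hK.1, hK.2.1, le_antisymm (nc_le K A) ?_⟩
      refine hK.2.2.ge.trans (nc_le_of ?_ (le_normalizer_nc K A))
      exact hH.2.2.ge.trans (nc_mono_left hH.1 hK.1)
    have hbig : ∀ H ∈ Fam A, A < H → ∃! M : Subgroup G, IsCoatom M ∧ H ≤ M := fun H hH hlt =>
      ih H hlt (normalClosure_top_mono hH.1 hA) hH.2.1
        fun he => hY (top_le_iff.1 (he ▸ sSup_le_sSup (hsub H hH)))
    have hfamconj : ∀ g ∈ normalizer (A : Set G), ∀ H ∈ Fam A, MulAut.conj g • H ∈ Fam A := by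
      intro g hg H hH
      have hgA := conj_smul_eq_iff_mem_normalizer.2 hg
      refine ⟨hgA ▸ conj_le_conj.2 hH.1, conj_ne_top hH.2.1, le_antisymm (nc_le _ _) ?_⟩
      have h1 : nc H A ≤ MulAut.conj g⁻¹ • nc (MulAut.conj g • H) A := by
        refine nc_le_of ?_ fun h hh => ?_
        · rw [← conj_le_conj (g := g), ← conj_smul_mul, mul_inv_cancel, map_one, one_smul, hgA]
          exact le_nc (hgA ▸ conj_le_conj.2 hH.1)
        · rw [← conj_smul_eq_iff_mem_normalizer, ← conj_smul_mul,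
            show h * g⁻¹ = g⁻¹ * (g * h * g⁻¹) by group, conj_smul_mul,
            conj_smul_eq_iff_mem_normalizer.2 (le_normalizer_nc _ _ ?_)]
          rw [mem_conj_smul]
          simpa [mul_assoc] using hh
      rw [hH.2.2, ← conj_le_conj (g := g), ← conj_smul_mul, mul_inv_cancel, map_one, one_smul] at h1
      exact h1
    obtain ⟨M, hM, hNM, hYM, hothers⟩ : ∃ M, IsCoatom M ∧ normalizer (A : Set G) ≤ M ∧ Y ≤ M ∧
        ∀ M', IsCoatom M' → M' ≠ M → ∀ H ∈ Fam A, H ≤ M' → H = A := by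
      rcases hAY.eq_or_lt with he | hlt
      · obtain ⟨M, hM, hNM⟩ := (eq_top_or_exists_le_coatom _).resolve_left (not_normalizer_top hA hAG)
        exact ⟨M, hM, hNM, he ▸ le_normalizer.trans hNM, fun M' _ _ H hH _ =>
          le_antisymm ((le_sSup hH).trans he.ge) hH.1⟩
      · obtain ⟨M, ⟨hM, hYM⟩, huniq⟩ := hbig Y hYfam hlt
        obtain ⟨M₁, hM₁, hNM₁⟩ := (eq_top_or_exists_le_coatom _).resolve_left
          (not_normalizer_top (normalClosure_top_mono hAY hA) hY)
        have e1 : M₁ = M := huniq M₁ ⟨hM₁, le_normalizer.trans hNM₁⟩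
        refine ⟨M, hM, fun g hg => e1 ▸ hNM₁ (conj_smul_eq_iff_mem_normalizer.1
          (eq_of_le_of_card_le ?_ (card_conj_smul _ _).ge)), hYM, fun M' hM' hne H hH hHM' => ?_⟩
        · rw [hYdef, CfsgLib.Zipper.conj_smul_sSup]
          refine sSup_le ?_
          rintro _ ⟨H, hH, rfl⟩
          exact le_sSup (hfamconj g hg H hH)
        · by_contra hHA
          obtain ⟨M₂, -, hu⟩ := hbig H hH (lt_of_le_of_ne hH.1 (Ne.symm hHA))
          exact hne ((hu M' ⟨hM', hHM'⟩).trans (hu M ⟨hM, (le_sSup hH).trans hYM⟩).symm)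
    have hR : ∀ V : Subgroup G, A ≤ V → V ≠ ⊤ → ¬ V ≤ M → (A.subgroupOf V).IsSubnormal := by
      intro V hAV hV hVM
      obtain ⟨M', hM', hVM'⟩ := (eq_top_or_exists_le_coatom V).resolve_left hV
      obtain ⟨H, hH, hHV, hsn⟩ := exists_fam_subnormal A V hAV hV
      have : H = A := hothers M' hM' (fun he => hVM (he ▸ hVM')) H hH (hHV.trans hVM')
      rwa [this] at hsn
    have hMnn : ∀ m : G, MulAut.conj m • M = M → m ∈ M := by
      intro m hm
      by_contra hmM
      have hlt : M < normalizer (M : Set G) := lt_of_le_of_ne le_normalizer fun he =>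
        hmM (he ▸ conj_smul_eq_iff_mem_normalizer.1 hm)
      haveI := normalizer_eq_top_iff.1 (hM.2 _ hlt)
      refine hM.1 (top_le_iff.1 (hA.ge.trans (normalClosure_le_normal ?_)))
      exact fun a ha => (le_normalizer.trans hNM) ha
    have hwd : ∀ g h : G, MulAut.conj g • A = MulAut.conj h • A →
        MulAut.conj g • M = MulAut.conj h • M := by
      intro g h he
      have h1 : MulAut.conj (h⁻¹ * g) • A = A := by rw [conj_smul_mul, he, conj_smul_inv_smul]
      have h2 := conj_smul_self_of_mem (hNM (conj_smul_eq_iff_mem_normalizer.1 h1))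
      conv_lhs => rw [show g = h * (h⁻¹ * g) by group, conj_smul_mul, h2]
    have hRg : ∀ g : G, ∀ V : Subgroup G, MulAut.conj g • A ≤ V → V ≠ ⊤ → ¬ V ≤ MulAut.conj g • M →
        ((MulAut.conj g • A).subgroupOf V).IsSubnormal := by
      intro g V hAV hV hVM
      have e : MulAut.conj g • MulAut.conj g⁻¹ • V = V := by
        rw [← conj_smul_mul, mul_inv_cancel, map_one, one_smul]
      have h1 := CfsgLib.Zipper.subgroupOf_conj_subnormal g (hR (MulAut.conj g⁻¹ • V)
        (by rw [← conj_le_conj (g := g), e]; exact hAV) (conj_ne_top hV)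
        (by rw [← conj_le_conj (g := g), e]; exact hVM))
      rwa [e] at h1
    -- two conjugates in a common maximal subgroup
    have hL : ∀ g h : G, ∀ X : Subgroup G, IsCoatom X → X ≠ MulAut.conj g • M →
        MulAut.conj g • A ≤ X → MulAut.conj h • A ≤ X → MulAut.conj h • A ≤ MulAut.conj g • M →
        MulAut.conj h • A ≠ MulAut.conj g • A →
        MulAut.conj g • A ≤ MulAut.conj h • M ∧ MulAut.conj h • M ≠ MulAut.conj g • M := by
      intro g h X hX hXg hgX hhX hhg hne
      by_contra hcon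
      set U := MulAut.conj g • A with hU
      set V := MulAut.conj h • A with hV
      set B := U ⊔ V with hB
      have hUM : U ≤ MulAut.conj g • M := conj_le_conj.2 (le_normalizer.trans hNM)
      have hBM : B ≤ MulAut.conj g • M := sup_le hUM hhg
      have hUB : U < B := lt_of_le_of_ne le_sup_left fun he =>
        hne (eq_of_le_of_card_le (le_sup_right.trans he.ge) (by rw [hU, hV, card_conj_smul, card_conj_smul]))
      have hBne : B ≠ ⊤ := fun he => (conj_isCoatom g hM).1 (top_le_iff.1 (he ▸ hBM))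
      have hfamB : sSup (Fam B) ≤ MulAut.conj g • M := by
        refine sSup_le fun K hK => ?_
        by_contra hKM
        have hUK : U ≤ K := le_sup_left.trans hK.1
        have hVK : V ≤ K := le_sup_right.trans hK.1
        have hVsn : (V.subgroupOf K).IsSubnormal := by
          refine hRg h K hVK hK.2.1 fun hKh => hcon ⟨hUK.trans hKh, fun he => hKM (he ▸ hKh)⟩
        have hBsn : (B.subgroupOf K).IsSubnormal := by
          rw [hB, subgroupOf_sup hUK hVK]
          exact CfsgLib.SubnormalJoin.isSubnormal_sup (hRg g K hUK hK.2.1 hKM) hVsn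
        exact hKM ((eq_of_subnormal_of_nc_eq hK.1 hBsn hK.2.2).ge.trans hBM)
      have hBA : normalClosure (B : Set G) = ⊤ := by
        refine normalClosure_top_mono le_sup_left (top_le_iff.1 (hA.ge.trans
          (normalClosure_le_normal fun a ha => ?_)))
        have h1 : g * a * g⁻¹ ∈ normalClosure (U : Set G) :=
          subset_normalClosure (by rw [SetLike.mem_coe, hU, mem_conj_smul]; simpa [mul_assoc] using ha)
        have h2 := normalClosure_normal.conj_mem _ h1 g⁻¹
        simpa [mul_assoc] using h2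
      obtain ⟨gi, hgi⟩ : ∃ B', B' = MulAut.conj g⁻¹ • B := ⟨_, rfl⟩
      have hAgi : A < gi := by
        refine lt_of_le_of_ne ?_ fun he => hUB.ne ?_
        · rw [hgi, ← conj_le_conj (g := g), ← conj_smul_mul g g⁻¹, mul_inv_cancel, map_one, one_smul]
          exact le_sup_left
        · rw [hU, he, hgi, ← conj_smul_mul, mul_inv_cancel, map_one, one_smul]
      have egi : MulAut.conj g • gi = B := by
        rw [hgi, ← conj_smul_mul, mul_inv_cancel, map_one, one_smul]
      have hfamgi : sSup (Fam gi) ≤ M := by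
        refine sSup_le fun K hK => ?_
        rw [← conj_le_conj (g := g)]
        refine le_trans (le_sSup (?_ : MulAut.conj g • K ∈ Fam B)) hfamB
        refine ⟨egi ▸ conj_le_conj.2 hK.1, conj_ne_top hK.2.1, le_antisymm (nc_le _ _) ?_⟩
        have h1 : nc K gi ≤ MulAut.conj g⁻¹ • nc (MulAut.conj g • K) B := by
          refine nc_le_of ?_ fun k hk => ?_
          · rw [hgi, conj_le_conj]
            exact le_nc (egi ▸ conj_le_conj.2 hK.1)
          · rw [← conj_smul_eq_iff_mem_normalizer, ← conj_smul_mul,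
              show k * g⁻¹ = g⁻¹ * (g * k * g⁻¹) by group, conj_smul_mul,
              conj_smul_eq_iff_mem_normalizer.2 (le_normalizer_nc _ _ ?_)]
            rw [mem_conj_smul]
            simpa [mul_assoc] using hk
        rw [hK.2.2, ← conj_le_conj (g := g), ← conj_smul_mul, mul_inv_cancel, map_one, one_smul] at h1
        exact h1
      have hgiM : gi ≤ M := by rw [← conj_le_conj (g := g), egi]; exact hBM
      obtain ⟨M₀, -, hu⟩ := ih gi hAgi (normalClosure_top_mono hAgi.le hA)
        (fun he => hM.1 (top_le_iff.1 (he ▸ hgiM))) (fun he => hM.1 (top_le_iff.1 (he ▸ hfamgi)))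
      have hX' : gi ≤ MulAut.conj g⁻¹ • X := by
        rw [hgi, conj_le_conj]; exact sup_le hgX hhX
      have e2 : MulAut.conj g⁻¹ • X = M :=
        (hu _ ⟨conj_isCoatom _ hX, hX'⟩).trans (hu M ⟨hM, hgiM⟩).symm
      exact hXg (by rw [← e2, ← conj_smul_mul, mul_inv_cancel, map_one, one_smul])
    have hN1 : ∀ g h : G, ∀ X : Subgroup G, IsCoatom X → X ≠ MulAut.conj g • M →
        MulAut.conj g • A ≤ X → MulAut.conj h • A ≤ X → MulAut.conj h • M = MulAut.conj g • M →
        MulAut.conj h • A = MulAut.conj g • A := by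
      intro g h X hX hXg hgX hhX he
      by_contra hne
      exact (hL g h X hX hXg hgX hhX (he ▸ conj_le_conj.2 (le_normalizer.trans hNM)) hne).2 he
    have hAM : A ≤ M := le_normalizer.trans hNM
    refine ⟨M, ⟨hM, hAM⟩, ?_⟩
    by_contra hnu
    obtain ⟨M₀, hM₀⟩ := not_forall.1 hnu
    obtain ⟨hM₀1, hM₀2⟩ := Classical.not_imp.1 hM₀
    obtain ⟨M', hmax⟩ := (Set.toFinite {X : Subgroup G | IsCoatom X ∧ A ≤ X ∧ X ≠ M}).exists_maximalFor
      (fun X => M ⊓ X) _ ⟨M₀, hM₀1.1, hM₀1.2, hM₀2⟩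
    obtain ⟨hM'c, hAM', hM'ne⟩ := hmax.prop
    set D := M ⊓ M' with hD
    set Φ : Set (Subgroup G) := {U | (∃ g : G, U = MulAut.conj g • A) ∧ U ≤ D ∧ U ≠ A} with hΦ
    have hAD : A ≤ D := le_inf hAM hAM'
    have hM1 : MulAut.conj (1 : G) • M = M := by rw [map_one, one_smul]
    have hA1 : MulAut.conj (1 : G) • A = A := by rw [map_one, one_smul]
    -- every point of the intersection other than `A` has another home, containing `A`
    have hpt : ∀ g : G, MulAut.conj g • A ≤ D → MulAut.conj g • A ≠ A →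
        A ≤ MulAut.conj g • M ∧ MulAut.conj g • M ≠ M := by
      intro g hg hne
      have h1 := hL 1 g M' hM'c (by rwa [hM1]) (by rwa [hA1]) (hg.trans inf_le_right)
        (by rw [hM1]; exact hg.trans inf_le_left) (by rwa [hA1])
      rwa [hA1, hM1] at h1
    have hDA : ∀ y ∈ D, MulAut.conj y • A = A := by
      intro y hy
      have h1 := hN1 1 y M' hM'c (by rwa [hM1]) (by rwa [hA1])
        (by rw [← conj_smul_self_of_mem (hy.2 : y ∈ M')]; exact conj_le_conj.2 hAM')
        (by rw [hM1]; exact conj_smul_self_of_mem hy.1)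
      rwa [hA1] at h1
    have hconjΦ : ∀ y ∈ D, ∀ U ∈ Φ, MulAut.conj y • U ∈ Φ := by
      rintro y hy _ ⟨⟨g, rfl⟩, hUD, hUA⟩
      refine ⟨⟨y * g, (conj_smul_mul _ _ _).symm⟩, ?_, fun he => hUA ?_⟩
      · rw [← conj_smul_self_of_mem hy]; exact conj_le_conj.2 hUD
      · rw [← conj_smul_inv_smul y (MulAut.conj g • A), he]
        exact hDA _ (inv_mem hy)
    -- a point other than `A`
    obtain ⟨T, hT⟩ : ∃ T, T ∈ Φ := by
      set S : Set (Subgroup G) := {U | ∃ m ∈ M', U = MulAut.conj m • A} with hS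
      have hne : ¬ M' ≤ normalizer (A : Set G) := fun he =>
        hM'ne (((hM'c.le_iff).1 (he.trans hNM)).resolve_left hM.1).symm
      obtain ⟨m, hm, hmA⟩ := SetLike.not_le_iff_exists.1 hne
      have hss : ({A} : Set (Subgroup G)) ⊂ S := by
        refine ssubset_of_subset_of_ne ?_ fun he => hmA (conj_smul_eq_iff_mem_normalizer.1 ?_)
        · rintro U rfl
          exact ⟨1, one_mem _, by rw [map_one, one_smul]⟩
        · have : MulAut.conj m • A ∈ ({A} : Set (Subgroup G)) := he ▸ ⟨m, hm, rfl⟩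
          exact this
      obtain ⟨X, ⟨k, hk, rfl⟩, hXA, hXN⟩ := CfsgLib.Zipper.normalizes_join M' S {A}
        (by
          rintro _ ⟨k, hk, rfl⟩
          have h0 : MulAut.conj k • A ≤ M' := by
            rw [← conj_smul_self_of_mem hk]; exact conj_le_conj.2 hAM'
          refine ⟨h0, hRg k M' h0 hM'c.1 fun he => ?_⟩
          have e := ((hM'c.le_iff).1 he).resolve_left (conj_isCoatom k hM).1
          rw [← conj_smul_self_of_mem hk] at e
          exact hM'ne ((MulAction.injective (MulAut.conj k)) e).symm)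
        (by
          rintro _ ⟨k, hk, rfl⟩ h hh
          exact ⟨h * k, mul_mem hh hk, (conj_smul_mul _ _ _).symm⟩) hss
      rw [sSup_singleton] at hXN
      exact ⟨_, ⟨k, rfl⟩, le_inf (hXN.trans hNM)
        (by rw [← conj_smul_self_of_mem hk]; exact conj_le_conj.2 hAM'), hXA⟩
    -- growth lemma: the points of `D` foreign to a maximal subgroup `N`
    have hgrow : ∀ N : Subgroup G, IsCoatom N → D ≤ N → ¬ N ≤ D →
        ∀ S₀ : Set (Subgroup G),
        (∀ U, U ∈ S₀ ↔ ∃ g : G, U = MulAut.conj g • A ∧ U ≤ D ∧ MulAut.conj g • M ≠ N) →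
        ∃ y ∈ N, y ∉ D ∧ ∀ U ∈ S₀, MulAut.conj y • U ∈ S₀ := by
      intro N hN hDN hND S₀ hS₀
      set S : Set (Subgroup G) :=
        {U | ∃ g : G, U = MulAut.conj g • A ∧ U ≤ N ∧ MulAut.conj g • M ≠ N} with hS
      have hsub : S₀ ⊆ S := by
        intro U hU
        obtain ⟨g, h1, h2, h3⟩ := (hS₀ U).1 hU
        exact ⟨g, h1, h2.trans hDN, h3⟩
      have hSconj : ∀ U ∈ S, ∀ h ∈ N, MulAut.conj h • U ∈ S := by
        rintro _ ⟨g, rfl, hgN, hgM⟩ h hh
        refine ⟨h * g, (conj_smul_mul _ _ _).symm, ?_, fun he => hgM ?_⟩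
        · rw [← conj_smul_self_of_mem hh]; exact conj_le_conj.2 hgN
        · rw [conj_smul_mul] at he
          rw [← conj_smul_inv_smul h (MulAut.conj g • M), he, conj_smul_self_of_mem (inv_mem hh)]
      by_cases he : S₀ = S
      · obtain ⟨y, hy, hyD⟩ := SetLike.not_le_iff_exists.1 hND
        exact ⟨y, hy, hyD, fun U hU => he.symm ▸ hSconj U (he ▸ hU) y hy⟩
      obtain ⟨X, hXS, hX₀, hXN⟩ := CfsgLib.Zipper.normalizes_join N S S₀
        (by
          rintro _ ⟨g, rfl, hgN, hgM⟩
          refine ⟨hgN, hRg g N hgN hN.1 fun hle => hgM ?_⟩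
          exact (hN.le_iff.1 hle).resolve_left (conj_isCoatom g hM).1)
        hSconj (ssubset_of_subset_of_ne hsub he)
      obtain ⟨g, rfl, hgN, hgM⟩ := hXS
      obtain ⟨y, hy, hyD⟩ : ∃ y ∈ MulAut.conj g • A, y ∉ D := SetLike.not_le_iff_exists.1
        fun hle => hX₀ ((hS₀ _).2 ⟨g, rfl, hle, hgM⟩)
      refine ⟨y, hgN hy, hyD, fun U hU => ?_⟩
      have hUS := hSconj U (hsub hU) y (hgN hy)
      obtain ⟨k, hk, -, hkN⟩ := hUS
      refine (hS₀ _).2 ⟨k, hk, ?_, hkN⟩
      have h1 : MulAut.conj y • U ≤ sSup S₀ := by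
        rw [← conj_smul_eq_iff_mem_normalizer.2 (hXN hy)]
        exact conj_le_conj.2 (le_sSup hU)
      exact h1.trans (sSup_le fun W hW => ((hS₀ W).1 hW).choose_spec.2.1)
    have hΦhome : ∀ U, U ∈ Φ ↔ ∃ g : G, U = MulAut.conj g • A ∧ U ≤ D ∧ MulAut.conj g • M ≠ M := by
      intro U
      constructor
      · rintro ⟨⟨g, rfl⟩, hUD, hUA⟩
        exact ⟨g, rfl, hUD, (hpt g hUD hUA).2⟩
      · rintro ⟨g, rfl, hUD, hne⟩
        exact ⟨⟨g, rfl⟩, hUD, fun he => hne (by rw [hwd g 1 (by rw [hA1]; exact he), hM1])⟩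
    have hMD : ¬ M ≤ D := fun he =>
      hM'ne ((hM.le_iff.1 (he.trans inf_le_right)).resolve_left hM'c.1)
    have hM'D : ¬ M' ≤ D := fun he =>
      hM'ne ((hM'c.le_iff.1 (he.trans inf_le_left)).resolve_left hM.1).symm
    obtain ⟨y, hyM, hyD, hyΦ⟩ := hgrow M hM inf_le_left hMD Φ hΦhome
    have hyA : MulAut.conj y • A = A := by
      obtain ⟨U, hU, hUT⟩ : ∃ U ∈ Φ, MulAut.conj y • U = T := by
        have hinj : Set.InjOn (fun U : Subgroup G => MulAut.conj y • U) Φ :=
          (MulAction.injective (MulAut.conj y)).injOn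
        exact ((Set.toFinite Φ).surjOn_iff_bijOn_of_mapsTo hyΦ).2
          ((Set.toFinite Φ).injOn_iff_bijOn_of_mapsTo hyΦ |>.1 hinj) hT
      obtain ⟨⟨g, rfl⟩, hUD, hUA⟩ := hU
      obtain ⟨⟨t, htT⟩, hTD, hTA⟩ := hT
      subst htT
      have hA_U := (hpt g hUD hUA).1
      have hyAT : MulAut.conj y • A ≤ MulAut.conj t • M := by
        rw [← hwd (y * g) t (by rw [conj_smul_mul]; exact hUT), conj_smul_mul]
        exact conj_le_conj.2 hA_U
      have h1 := hN1 1 y (MulAut.conj t • M) (conj_isCoatom t hM)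
        (by rw [hM1]; exact (hpt t hTD hTA).2) (by rw [hA1]; exact (hpt t hTD hTA).1) hyAT
        (by rw [hM1]; exact conj_smul_self_of_mem hyM)
      rwa [hA1] at h1
    set Ψ : Set (Subgroup G) := {U | (∃ g : G, U = MulAut.conj g • A) ∧ U ≤ D} with hΨ
    obtain ⟨z, hzM', hzD, hzS⟩ := hgrow M' hM'c inf_le_right hM'D
      {U | ∃ g : G, U = MulAut.conj g • A ∧ U ≤ D ∧ MulAut.conj g • M ≠ M'} (fun U => Iff.rfl)
    have hzsurj : ∀ V ∈ {U | ∃ g : G, U = MulAut.conj g • A ∧ U ≤ D ∧ MulAut.conj g • M ≠ M'},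
        ∃ P ∈ {U | ∃ g : G, U = MulAut.conj g • A ∧ U ≤ D ∧ MulAut.conj g • M ≠ M'},
          MulAut.conj z • P = V := by
      intro V hV
      exact ((Set.toFinite _).surjOn_iff_bijOn_of_mapsTo hzS).2
        ((Set.toFinite _).injOn_iff_bijOn_of_mapsTo hzS |>.1
          (MulAction.injective (MulAut.conj z)).injOn) hV
    have hzΨ : ∀ U ∈ Ψ, MulAut.conj z • U ∈ Ψ := by
      rintro _ ⟨⟨g, rfl⟩, hUD⟩
      by_cases hg : MulAut.conj g • M = M'
      · -- the point whose home is `M'` is fixed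
        have hgA : MulAut.conj g • A ≠ A := fun he =>
          hM'ne (by rw [← hg, hwd g 1 (by rw [hA1]; exact he), hM1])
        obtain ⟨P, ⟨p, rfl, hPD, hpM'⟩, hPA⟩ :=
          hzsurj A ⟨1, hA1.symm, hAD, by rw [hM1]; exact hM'ne.symm⟩
        have hTP : MulAut.conj g • A ≤ MulAut.conj p • M := by
          by_cases he : MulAut.conj p • A = A
          · rw [hwd p 1 (by rw [hA1]; exact he), hM1]; exact hUD.trans inf_le_left
          exact (hL g p M hM (hg ▸ hM'ne.symm) (hUD.trans inf_le_left) (hPD.trans inf_le_left)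
            (hg ▸ hPD.trans inf_le_right)
            fun h' => hpM' (hwd p g h' ▸ hg)).1
        have hzTM : MulAut.conj z • MulAut.conj g • A ≤ M := by
          have e : MulAut.conj z • MulAut.conj p • M = M := by
            rw [← conj_smul_mul, hwd (z * p) 1 (by rw [conj_smul_mul, hA1]; exact hPA), hM1]
          rw [← e]
          exact conj_le_conj.2 hTP
        have e1 := hN1 g (z * g) M hM (hg ▸ hM'ne.symm) (hUD.trans inf_le_left)
          (by rwa [conj_smul_mul]) (by rw [conj_smul_mul, hg, conj_smul_self_of_mem hzM'])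
        rw [conj_smul_mul] at e1
        rw [e1]
        exact ⟨⟨g, rfl⟩, hUD⟩
      · obtain ⟨k, hk, hkD, -⟩ := hzS _ ⟨g, rfl, hUD, hg⟩
        exact ⟨⟨k, hk⟩, hkD⟩
    have hyΨ : ∀ U ∈ Ψ, MulAut.conj y • U ∈ Ψ := by
      rintro U ⟨hg, hUD⟩
      by_cases he : U = A
      · rw [he, hyA]; exact ⟨⟨1, hA1.symm⟩, hAD⟩
      · obtain ⟨h1, h2, -⟩ := hyΦ U ⟨hg, hUD, he⟩
        exact ⟨h1, h2⟩
    set W := sSup Ψ with hW
    have hWD : W ≤ D := sSup_le fun U hU => hU.2
    have hAW : A ≤ W := le_sSup ⟨⟨1, hA1.symm⟩, hAD⟩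
    have hnorm : ∀ x : G, (∀ U ∈ Ψ, MulAut.conj x • U ∈ Ψ) → x ∈ normalizer (W : Set G) := by
      intro x hx
      rw [← conj_smul_eq_iff_mem_normalizer]
      refine eq_of_le_of_card_le ?_ (card_conj_smul _ _).ge
      rw [hW, CfsgLib.Zipper.conj_smul_sSup]
      refine sSup_le ?_
      rintro _ ⟨U, hU, rfl⟩
      exact le_sSup (hx U hU)
    have hDW : D ≤ normalizer (W : Set G) := fun d hd => hnorm d (by
      rintro _ ⟨⟨g, rfl⟩, hUD⟩
      exact ⟨⟨d * g, (conj_smul_mul _ _ _).symm⟩,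
        by rw [← conj_smul_self_of_mem hd]; exact conj_le_conj.2 hUD⟩)
    have hWne : W ≠ ⊤ := fun he => hM.1 (top_le_iff.1 (he ▸ hWD.trans inf_le_left))
    obtain ⟨M₃, hM₃, hNM₃⟩ := (eq_top_or_exists_le_coatom _).resolve_left
      (not_normalizer_top (normalClosure_top_mono hAW hA) hWne)
    by_cases he : M₃ = M
    · exact hzD ⟨he ▸ hNM₃ (hnorm z hzΨ), hzM'⟩
    have hle : D ≤ M ⊓ M₃ := le_inf inf_le_left (hDW.trans hNM₃)
    exact hyD (hmax.le_of_le ⟨hM₃, hAD.trans (hDW.trans hNM₃), he⟩ hle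
      ⟨hyM, hNM₃ (hnorm y hyΨ)⟩)

end CfsgLib.ZipperClosure
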